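import Groth.Agent.InjFibre.Alg
import Groth.Agent.FibRegOpen.Alg
import Mathlib

/-!
# Flatness along a flat divisor, without Noetherian hypotheses
-/

set_option autoImplicit false
set_option linter.style.haveILetI false
universe u

open IsLocalRing

namespace Groth.Agent.W7FlatCart

theorem isNoetherian_quot_smul {S : Type u} [CommRing S] (𝔞 : Ideal S) [IsNoetherianRing (S ⧸ 𝔞)] (M : Type u)
    [AddCommGroup M] [Module S M] [Module.Finite S M] : IsNoetherian S (M ⧸ 𝔞 • (⊤ : Submodule S M)) := by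
  haveI : IsNoetherian S (S ⧸ 𝔞) := isNoetherian_def.2 fun W => by
    let W' : Ideal (S ⧸ 𝔞) :=
      { carrier := W, add_mem' := W.add_mem, zero_mem' := W.zero_mem
        smul_mem' := fun c x hx => by
          obtain ⟨c, rfl⟩ := Ideal.Quotient.mk_surjective c
          exact W.smul_mem c hx }
    obtain ⟨s, hs⟩ := IsNoetherian.noetherian W'
    refine ⟨s, ?_⟩
    rw [show W = W'.restrictScalars S from rfl, ← hs]
    exact (Submodule.restrictScalars_span S (S ⧸ 𝔞) Ideal.Quotient.mk_surjective _).symm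
  haveI : Module.Finite (S ⧸ 𝔞) (M ⧸ 𝔞 • (⊤ : Submodule S M)) := Module.Finite.of_restrictScalars_finite S _ _
  obtain ⟨n, f, hf⟩ := Module.Finite.exists_fin' (S ⧸ 𝔞) (M ⧸ 𝔞 • (⊤ : Submodule S M))
  exact isNoetherian_of_surjective (f.restrictScalars S) (LinearMap.range_eq_top.2 hf)

/-- The elements of `I` in `𝔞` lie in `𝔞 I` if this holds for `I + (f)`, with `f` regular mod `I`. -/
theorem inf_le_mul_of_sup_span {S : Type u} [CommRing S] [IsLocalRing S] (𝔞 I : Ideal S) (hI : I.FG)
    [IsNoetherianRing (S ⧸ 𝔞)] (f : S) (hf : f ∈ maximalIdeal S) (hreg : ∀ b, f * b ∈ I → b ∈ I)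
    (h : (I ⊔ Ideal.span {f}) ⊓ 𝔞 ≤ 𝔞 * (I ⊔ Ideal.span {f})) : I ⊓ 𝔞 ≤ 𝔞 * I := by
  haveI : Module.Finite S I := Module.Finite.iff_fg.2 hI
  let π := (𝔞 • (⊤ : Submodule S I)).mkQ
  let T := (Submodule.comap I.subtype 𝔞).map π
  haveI hN : IsNoetherian S (I ⧸ 𝔞 • (⊤ : Submodule S I)) := isNoetherian_quot_smul 𝔞 I
  have hT : T ≤ Ideal.span {f} • T := by
    rintro _ ⟨z, hz, rfl⟩
    have hz1 : (z : S) ∈ 𝔞 * I ⊔ 𝔞 * Ideal.span {f} := by
      rw [← Ideal.mul_sup]
      exact h ⟨Submodule.mem_sup_left z.2, hz⟩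
    obtain ⟨a, ha, w, hw, e⟩ := Submodule.mem_sup.1 hz1
    obtain ⟨b, hb, rfl⟩ := Ideal.mem_mul_span_singleton.1 hw
    have hbI : b ∈ I := hreg b (by
      rw [mul_comm, show b * f = (z : S) - a from eq_sub_of_add_eq' e]
      exact sub_mem z.2 ((Ideal.mul_le_right (I := 𝔞) (J := I)) ha))
    have h0 : π (z - f • (⟨b, hbI⟩ : I)) = 0 := by
      refine (Submodule.Quotient.mk_eq_zero _).2 ((Submodule.mem_smul_top_iff 𝔞 I _).2 ?_)
      show (z : S) - f * b ∈ 𝔞 * I
      rwa [show (z : S) - f * b = a by rw [← e]; ring]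
    rw [map_sub, sub_eq_zero, map_smul] at h0
    rw [h0]
    exact Submodule.smul_mem_smul (Ideal.mem_span_singleton_self f) (Submodule.mem_map_of_mem hb)
  have hT0 : T = ⊥ := Submodule.eq_bot_of_le_smul_of_le_jacobson_bot _ T (IsNoetherian.noetherian T) hT
    (((Ideal.span_singleton_le_iff_mem _).2 hf).trans (IsLocalRing.maximalIdeal_le_jacobson ⊥))
  intro z hz
  have h1 : π ⟨z, hz.1⟩ ∈ T := Submodule.mem_map_of_mem (show z ∈ 𝔞 from hz.2)
  rw [hT0, Submodule.mem_bot] at h1
  exact (Submodule.mem_smul_top_iff 𝔞 I _).1 ((Submodule.Quotient.mk_eq_zero _).1 h1)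

/-- A quotient of a localization of a finitely presented flat algebra is flat if its fg kernel meets
`p S'` in `p` times it. -/
theorem flat_of_inf_le_mul {R S S' : Type u} [CommRing R] [CommRing S] [CommRing S'] [Algebra R S]
    [Algebra.FinitePresentation R S] (q : Ideal S) [q.IsPrime] [Algebra S S']
    [IsLocalization.AtPrime S' q] [Algebra R S'] [Module.Flat R S'] [IsScalarTower R S S'] (I : Ideal S') (hI : I.FG)
    [IsNoetherianRing (S' ⧸ (q.comap (algebraMap R S)).map (algebraMap R S'))]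
    (h : I ⊓ (q.comap (algebraMap R S)).map (algebraMap R S') ≤ (q.comap (algebraMap R S)).map (algebraMap R S') * I) :
    Module.Flat R (S' ⧸ I) := by
  set 𝔞 := (q.comap (algebraMap R S)).map (algebraMap R S')
  obtain ⟨n, g, hg⟩ := Submodule.fg_iff_exists_fin_generating_family.1 hI
  let u₀ : (Fin n → S') →ₗ[S'] S' := Fintype.linearCombination S' g
  have hu₀ : LinearMap.range u₀ = I := (Fintype.range_linearCombination S' g).trans hg
  let Rel := LinearMap.ker u₀
  haveI : IsNoetherian S' ((Fin n → S') ⧸ 𝔞 • (⊤ : Submodule S' (Fin n → S'))) := isNoetherian_quot_smul 𝔞 _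
  obtain ⟨W, hWR, hW, hWe⟩ : ∃ W ≤ Rel, W.FG ∧ W.map (𝔞 • (⊤ : Submodule S' (Fin n → S'))).mkQ =
      Rel.map (𝔞 • (⊤ : Submodule S' (Fin n → S'))).mkQ := by
    classical
    set mq := (𝔞 • (⊤ : Submodule S' (Fin n → S'))).mkQ
    obtain ⟨t, ht⟩ := IsNoetherian.noetherian (Rel.map mq)
    choose g hgR hg using fun y : t => (Submodule.mem_map.1 (show y.1 ∈ Rel.map mq from ht ▸ Submodule.subset_span y.2))
    refine ⟨Submodule.span S' (Set.range g), Submodule.span_le.2 (Set.range_subset_iff.2 hgR),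
      Submodule.fg_span (Set.finite_range g), ?_⟩
    rw [Submodule.map_span, ← Set.range_comp, show ⇑mq ∘ g = Subtype.val from funext hg, Subtype.range_coe, ← ht]
  let u : ((Fin n → S') ⧸ W) →ₗ[S'] S' := W.liftQ u₀ hWR
  haveI : Module.FinitePresentation S' ((Fin n → S') ⧸ W) :=
    Module.finitePresentation_of_surjective W.mkQ W.mkQ_surjective (by rw [Submodule.ker_mkQ]; exact hW)
  have H : ∀ x, u x ∈ 𝔞 • (⊤ : Submodule S' S') → x ∈ 𝔞 • (⊤ : Submodule S' ((Fin n → S') ⧸ W)) := by
    intro x hx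
    obtain ⟨y, rfl⟩ := W.mkQ_surjective x
    have h1 : u₀ y ∈ 𝔞 * I := h ⟨hu₀ ▸ ⟨y, rfl⟩, by simpa [u] using hx⟩
    rw [← hu₀, ← smul_eq_mul, LinearMap.range_eq_map, ← Submodule.map_smul''] at h1
    obtain ⟨c, hc, hce⟩ := h1
    have h2 : y - c ∈ Rel := by simp [Rel, hce]
    obtain ⟨w, hw, hwe⟩ := hWe.ge (Submodule.mem_map_of_mem h2)
    have h3 : y - c - w ∈ 𝔞 • (⊤ : Submodule S' (Fin n → S')) :=
      (Submodule.Quotient.eq _).1 hwe.symm
    have h4 := Submodule.mem_map_of_mem (f := W.mkQ) (add_mem h3 hc)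
    rw [Submodule.map_smul'', Submodule.map_top, Submodule.range_mkQ, show y - c - w + c = y - w by ring,
      map_sub, show W.mkQ w = 0 from (Submodule.Quotient.mk_eq_zero _).2 hw, sub_zero] at h4
    exact h4
  have h5 := (InjFibre.atPrime (R := R) (S := S) (S' := S') q u H).2
  have h6 : LinearMap.range u = I := (Submodule.range_liftQ _ _ _).trans hu₀
  exact Module.Flat.of_linearEquiv ((Submodule.quotEquivOfEq _ _ h6.symm).restrictScalars R)

/-- **Flatness at the points of a flat Cartier divisor.** -/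
theorem flat_of_flat_quotient {A B B' : Type u} [CommRing A] [CommRing B] [CommRing B'] [Algebra A B]
    [Algebra.FinitePresentation A B] (q : Ideal B) [q.IsPrime] [Algebra B B'] [IsLocalization.AtPrime B' q]
    [Algebra A B'] [IsScalarTower A B B'] (f : B') (hf : f ∈ nonZeroDivisors B') (hu : ¬ IsUnit f)
    [Module.Flat A (B' ⧸ Ideal.span {f})] : Module.Flat A B' := by
  obtain ⟨k, π, hπ, hker⟩ := Algebra.FinitePresentation.out (R := A) (A := B)
  let P := MvPolynomial (Fin k) A
  let Q := q.comap π.toRingHom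
  haveI : Q.IsPrime := Ideal.IsPrime.comap _
  let P' := Localization.AtPrime Q
  haveI : Module.Flat P P' := IsLocalization.flat _ Q.primeCompl
  haveI : Module.Flat A P' := Module.Flat.trans A P P'
  haveI : IsLocalRing B' := IsLocalization.AtPrime.isLocalRing B' q
  have hsurj : (Submonoid.map π.toRingHom Q.primeCompl) = q.primeCompl := by
    ext b
    exact ⟨fun ⟨a, ha, e⟩ => e ▸ ha, fun hb => by obtain ⟨a, rfl⟩ := hπ b; exact ⟨a, hb, rfl⟩⟩
  let Φ : P' →ₐ[A] B' := IsLocalization.liftAlgHom (M := Q.primeCompl)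
    (f := (IsScalarTower.toAlgHom A B B').comp π) (fun y => IsLocalization.map_units B' (⟨π y, y.2⟩ : q.primeCompl))
  have hΦ : ∀ x : P, Φ (algebraMap P P' x) = algebraMap B B' (π x) := fun x => IsLocalization.lift_eq _ x
  have hΦs : Function.Surjective Φ := by
    intro z
    obtain ⟨⟨b, s⟩, e⟩ := IsLocalization.surj q.primeCompl z
    obtain ⟨x, rfl⟩ := hπ b
    obtain ⟨t, ht⟩ := hπ s.1
    have htQ : t ∈ Q.primeCompl := show π t ∉ q from ht ▸ s.2
    refine ⟨IsLocalization.mk' P' x (⟨t, htQ⟩ : Q.primeCompl), ?_⟩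
    refine (IsLocalization.map_units B' s).mul_left_injective ?_
    show Φ _ * algebraMap B B' s.1 = z * algebraMap B B' s.1
    rw [e, ← hΦ x, ← ht, ← hΦ, ← map_mul]
    exact congrArg Φ (IsLocalization.mk'_spec P' x ⟨t, htQ⟩)
  let I := RingHom.ker Φ
  have hIe : I = (RingHom.ker π).map (algebraMap P P') := by
    refine le_antisymm (fun z hz => ?_) (Ideal.map_le_iff_le_comap.2 fun x hx => ?_)
    · obtain ⟨x, t, rfl⟩ := IsLocalization.exists_mk'_eq Q.primeCompl z
      have h1 : algebraMap B B' (π x) = 0 := by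
        rw [← hΦ, ← IsLocalization.mk'_spec P' x t, map_mul, show Φ _ = 0 from hz, zero_mul]
      obtain ⟨c, hc⟩ := (IsLocalization.map_eq_zero_iff q.primeCompl _ _).1 h1
      obtain ⟨d, hd⟩ := hπ c.1
      refine IsLocalization.mem_map_algebraMap_iff Q.primeCompl P' |>.2
        ⟨⟨⟨d * x, by rw [RingHom.mem_ker, map_mul, hd, hc]⟩, ⟨d, show π d ∉ q from hd ▸ c.2⟩ * t⟩, ?_⟩
      show IsLocalization.mk' P' x t * algebraMap P P' (d * t.1) = algebraMap P P' (d * x)
      rw [map_mul, mul_comm (algebraMap P P' d), ← mul_assoc, IsLocalization.mk'_spec, mul_comm, map_mul]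
    · show Φ (algebraMap P P' x) = 0
      rw [hΦ, show π x = 0 from hx, map_zero]
  have hI : I.FG := hIe ▸ hker.map _
  obtain ⟨f', rfl⟩ := hΦs f
  have hf' : f' ∈ maximalIdeal P' := (IsLocalRing.mem_maximalIdeal _).2 fun h => hu (h.map Φ)
  have hreg : ∀ b, f' * b ∈ I → b ∈ I := fun b hb => by
    have h1 : Φ b * Φ f' = 0 := by rw [mul_comm, ← map_mul]; exact hb
    exact (mul_right_mem_nonZeroDivisors_eq_zero_iff hf).1 h1
  -- the fibre ring is Noetherian
  set p := Q.comap (algebraMap A P)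
  haveI : p.IsPrime := Ideal.IsPrime.comap _
  haveI : IsNoetherianRing (P' ⧸ p.map (algebraMap A P')) := by
    let mk := Ideal.Quotient.mk (p.map (algebraMap A P'))
    have h1 : p ≤ RingHom.ker (mk.comp (algebraMap A P')) := fun a ha => by
      show mk (algebraMap A P' a) = 0
      exact Ideal.Quotient.eq_zero_iff_mem.2 (Ideal.mem_map_of_mem _ ha)
    have h2 : p.primeCompl ≤ (IsUnit.submonoid _).comap (mk.comp (algebraMap A P')) := fun a ha => by
      show IsUnit (mk (algebraMap A P' a))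
      rw [IsScalarTower.algebraMap_apply A P P']
      exact (IsLocalization.map_units P' (⟨_, ha⟩ : Q.primeCompl)).map mk
    let ψ := Ideal.ResidueField.lift (S := P' ⧸ p.map (algebraMap A P')) p (mk.comp (algebraMap A P')) h1 h2
    let θ := MvPolynomial.eval₂Hom ψ (fun i => mk (algebraMap P P' (MvPolynomial.X i)))
    have hθ : θ.comp (MvPolynomial.map (algebraMap A p.ResidueField)) = mk.comp (algebraMap P P') := by
      refine MvPolynomial.ringHom_ext (fun a => ?_) (fun i => ?_)
      · simp only [RingHom.coe_comp, Function.comp_apply, MvPolynomial.map_C, θ, MvPolynomial.eval₂Hom_C]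
        rw [Ideal.ResidueField.lift_algebraMap]
        exact congrArg mk (IsScalarTower.algebraMap_apply A P P' a)
      · simp [θ]
    refine isNoetherianRing_iff_ideal_fg _ |>.2 fun J => ?_
    have hfg : (J.comap θ).FG := IsNoetherian.noetherian _
    have hJ : (J.comap θ).map θ = J := by
      refine le_antisymm Ideal.map_comap_le fun z hz => ?_
      obtain ⟨z, rfl⟩ := Ideal.Quotient.mk_surjective z
      obtain ⟨x, t, rfl⟩ := IsLocalization.exists_mk'_eq Q.primeCompl z
      have hu' : IsUnit (mk (algebraMap P P' t)) := (IsLocalization.map_units P' t).map mk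
      obtain ⟨v, hv⟩ := hu'.exists_right_inv
      rw [show mk (IsLocalization.mk' P' x t) = mk (IsLocalization.mk' P' x t) * mk (algebraMap P P' t) * v by
        rw [mul_assoc, hv, mul_one]]
      rw [mul_comm _ v]
      refine Ideal.mul_mem_left _ _ ?_
      have e : mk (IsLocalization.mk' P' x t) * mk (algebraMap P P' t) = θ (MvPolynomial.map (algebraMap A p.ResidueField) x) := by
        rw [← map_mul, IsLocalization.mk'_spec]
        exact (RingHom.congr_fun hθ x).symm
      rw [e]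
      refine Ideal.mem_map_of_mem _ ?_
      show θ _ ∈ J
      rw [← e]
      rw [← map_mul, mul_comm, map_mul]
      exact J.mul_mem_left _ hz
    exact hJ ▸ hfg.map θ
  have hI'e : I ⊔ Ideal.span {f'} = RingHom.ker ((Ideal.Quotient.mkₐ A (Ideal.span {Φ f'})).comp Φ) := by
    show _ = RingHom.ker (((Ideal.Quotient.mk (Ideal.span {Φ f'})).comp Φ.toRingHom))
    rw [← RingHom.comap_ker, Ideal.mk_ker,
      show Ideal.span {Φ f'} = (Ideal.span {f'}).map Φ.toRingHom by rw [Ideal.map_span, Set.image_singleton]; rfl,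
      Ideal.comap_map_of_surjective' Φ.toRingHom hΦs, sup_comm]
    rfl
  haveI : Module.Flat A (P' ⧸ (I ⊔ Ideal.span {f'})) := by
    rw [hI'e]
    exact Module.Flat.of_linearEquiv (Ideal.quotientKerAlgEquivOfSurjective
      (f := (Ideal.Quotient.mkₐ A (Ideal.span {Φ f'})).comp Φ) ((Ideal.Quotient.mkₐ_surjective A _).comp hΦs)).toLinearEquiv
  set I' := I ⊔ Ideal.span {f'}
  haveI : Module.Flat A (P' ⧸ I) := flat_of_inf_le_mul Q I hI (inf_le_mul_of_sup_span _ I hI f' hf' hreg (by
    rintro z ⟨hz, hzp⟩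
    have hzp' : ((Submodule.subtype I').restrictScalars A) ⟨z, hz⟩ ∈ p • (⊤ : Submodule A P') := by
      rw [Ideal.smul_top_eq_map, Submodule.restrictScalars_mem]
      exact hzp
    have hex : Function.Exact ((Submodule.subtype I').restrictScalars A) (Ideal.Quotient.mkₐ A I').toLinearMap := by
      intro w
      refine ⟨fun hw => ⟨⟨w, Ideal.Quotient.eq_zero_iff_mem.1 hw⟩, rfl⟩, ?_⟩
      rintro ⟨v, rfl⟩
      exact Ideal.Quotient.eq_zero_iff_mem.2 v.2
    have h1 := FibRegOpen.mem_smul_of_exact ((Ideal.Quotient.mkₐ A I').toLinearMap) Ideal.Quotient.mk_surjective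
      ((Submodule.subtype I').restrictScalars A) Subtype.val_injective
      hex p (⟨z, hz⟩ : I') hzp'
    have h2 := Submodule.mem_map_of_mem (f := (Submodule.subtype I').restrictScalars A) h1
    rw [Submodule.map_smul''] at h2
    refine Submodule.smul_induction_on (p := fun y => y ∈ p.map (algebraMap A P') * I') h2 (fun r hr v hv => ?_) (fun a b ha hb => add_mem ha hb)
    obtain ⟨w, -, rfl⟩ := hv
    rw [Algebra.smul_def]
    exact Ideal.mul_mem_mul (Ideal.mem_map_of_mem _ hr) w.2))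
  exact Module.Flat.of_linearEquiv (Ideal.quotientKerAlgEquivOfSurjective hΦs).symm.toLinearEquiv

end Groth.Agent.W7FlatCart
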